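import Cfsg.Agent.Mrg.Omega.NSix.HT.Main
import Cfsg.Agent.Mrg.Omega.IId.SymMany.End
import Cfsg.Agent.Mrg.Omega.IId.NoOne
import Cfsg.Agent.Mrg.Omega.IId.Big.Of
import Cfsg.Agent.Mrg.Omega.NSix.TLg
import Cfsg.Agent.Mrg.Omega.NSix.TkPair
import Cfsg.Agent.Mrg.Omega.NOne.LemmaT
import Cfsg.Agent.Mrg.Omega.IId.SymMany.Two

section


/-!
# `q = 2`: at least two natural factors against one factor `S_{2^m'+1}`, `m' ≥ 3`

* `exists_mover` : the line and an element of the factor moved by `V'`;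
* `le_zl_of` : `V_l ≤ V'` for the other factors;
* `three_false`.
-/

set_option autoImplicit false
set_option linter.unusedSectionVars false

namespace Cfsg.Agent.Omega.IId.SymMany

open Subgroup Cfsg Cfsg.Agent.ZN.ChoiceBase
open Cfsg.Agent.ZN (o2 zc zl)
open Cfsg.Agent.Omega.MinPar Cfsg.Agent.Omega.FFThm Cfsg.Agent.Omega.Frame
open Cfsg.Agent.Omega.FrameFF (cv Free)
open Cfsg.Agent.Omega.FrameMulti (IsSym IsNat Typed AllTyped)
open Cfsg.Agent.Omega.S5.Def
open Cfsg.Agent.Omega.S5.NatBig (Facts)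
open Cfsg.Agent.Omega.NSix.Base (zz rr NN)
open Cfsg.Agent.Omega.NSix.Basic (zz_mem rr_mem rr_sq rr_ne_one)
open Cfsg.Agent.Omega.NSix.Zero (WP)
open Cfsg.Agent.Omega.IId.Sym
open Cfsg.Agent.Omega.IId.Big (Fr Rd)
open Triangle (KK KK_conj KK_le_o2 mem_cent mem_KK mem_zpowers_iff_of_sq cent_conj o2_cent_conj)
open scoped commutatorElement

universe u

variable {G : Type u} [Group G]

/-- The line, and an element of the factor moved by `V'`. -/
theorem exists_mover {S P V' L : Subgroup G} {F : Type} [Field F] {k : ℕ} (M : NatK F S P (zl S P) ⊥ k)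
    {I : Set (Fin k)} (hI : Ind M V' I) (hVP : V' ≤ P) {m : ℕ} {ε : (Fin m → ZMod 2) → G}
    (h : EvenSet m V' L ε) (hm : 3 ≤ m) {i j : Fin m} (hij : i ≠ j) {b : G} (hb : b ∈ zl S P)
    (hbs : Acts ε b (Equiv.swap i j)) :
    ∃ i₀ : Fin k, rr ε i j ∈ line M i₀ ∧ ∃ a ∈ fac M i₀, ∃ w ∈ V', w * a ≠ a * w := by
  have hne : b * zz ε i ≠ zz ε i * b := Ne.symm (lswap_ne h hm hij hbs)
  obtain ⟨i₀, hi₀, h1⟩ := exists_coord hI hVP hb (zz_mem h i) hne
  obtain ⟨w, hw, h2, h3, h4⟩ := Sym.exists_root hI hVP hb hi₀ 1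
  have h6 : ⁅b, w⁆ ≠ 1 := root_ne one_ne_zero h1 h3
  have h5 : ⁅b, w⁆ = rr ε i j := by
    obtain ⟨u, rfl⟩ := h.surj w hw
    by_cases hu : u i = u j
    · exfalso
      apply h6
      rw [commutatorElement_eq_one_iff_mul_comm]
      exact (S5.Pair.acts_swap h hbs u).1 hu
    · rw [commutatorElement_def, (S5.Pair.acts_swap h hbs u).2 hu, h.comm, mul_inv_cancel_right, h.add]
      rfl
  have hn : rr ε i j ∈ line M i₀ := by
    rw [← h5, mem_line]
    exact ⟨h2, h4⟩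
  refine ⟨i₀, hn, ?_⟩
  obtain ⟨a, ha, h7, -⟩ := exists_component M hb i₀
  refine ⟨a, ha, w, hw, fun h0 => h1 ?_⟩
  -- the coordinates
  obtain ⟨d, -, h10⟩ := hI.act w hw
  have h11 := (e_comm ha.1 (hVP hw) h10 i₀).2.1
  have h12 := (e_comm hb (hVP hw) h10 i₀).2.1
  have h13 : ⁅a, w⁆ = 1 := commutatorElement_eq_one_iff_mul_comm.2 h0.symm
  rw [h13, e_one, h7, ← h12, h3] at h11
  have h14 : (0 : F) = - (1 * M.e b i₀ 1) := h11
  rw [one_mul] at h14
  exact neg_eq_zero.1 h14.symm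

variable [Finite G]

/-- **`V_l ≤ V'`** for the factors `l ≠ i₀`, if `C_G(r_ij) ≤ N_G(V')`, `{1, r_ij} = line M i₀`. -/
theorem le_zl_of {S' : Sylow 2 G} {V' P' T : Subgroup G} {ι : Type} {V : ι → Subgroup G}
    (hc : IsCharacteristicTwoType G) (fr : Fr T V) {m : ℕ}
    (hm : 5 ≤ m) {ε : (Fin m → ZMod 2) → G} (h : NSix.OmegaOne.Hyp V' P' S' ε) {i j : Fin m} (hij : i ≠ j)
    (hN : NN ε i j ≤ normalizer (V' : Set G)) (hKK : V' ≤ KK (rr ε i j)) {i₀ l : ι} (hl : l ≠ i₀)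
    (hr : rr ε i j ∈ V i₀) : V l ≤ V' := by
  have hr1 : rr ε i j ≠ 1 := rr_ne_one h.ev (by omega) hij
  have hQ : V' ≤ o2 (centralizer ({rr ε i j} : Set G)) := hKK.trans (fr.KK_le_q hr hr1)
  have hVC : V' ≤ centralizer (V' : Set G) := fun v hv => by
    rw [mem_centralizer_iff]
    exact fun v' hv' => h.ev.comm_mem hv' hv
  have hcz : centralizer (V' : Set G) ≤ centralizer ({rr ε i j} : Set G) :=
    centralizer_le (Set.singleton_subset_iff.2 (rr_mem h.ev i j))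
  have hNN : NN ε i j = centralizer ({rr ε i j} : Set G) := rfl
  have hnC : centralizer ({rr ε i j} : Set G) ≤ normalizer (centralizer (V' : Set G) : Set G) := by
    rw [← hNN]
    exact hN.trans (NOne.LemmaT.normalizer_le_normalizer_centralizer _)
  have h1 := Big.o2_le_o2_of hcz hnC
  -- `V_l` centralises `V'`
  have h2 : V l ≤ centralizer (V' : Set G) := fun x hx => by
    rw [mem_centralizer_iff]
    exact fun v hv => fr.Qc i₀ l hl _ hr hr1 v (hQ hv) x hx
  have h3 : V l ≤ o2 (centralizer (V' : Set G)) := by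
    refine le_trans (le_inf h2 fun x hx => ?_) (NOne.LemmaT.char2_centralizer hc h.ev.isPGroup ?_)
    · rw [mem_centralizer_iff]
      exact fun y hy => fr.Qc i₀ l hl _ hr hr1 y (h1 hy) x hx
    · intro h0
      have h4 := rr_mem h.ev i j
      rw [h0, mem_bot] at h4
      exact hr1 h4
  rw [← h.zc_o2_centralizer hc hm]
  intro x hx
  refine MinSimple.VModule.mem_zc.2 ⟨h3 hx, fun y hy => ?_, ?_⟩
  · exact fr.Qc i₀ l hl _ hr hr1 y (h1 hy) x hx
  · rw [pow_two]
    exact fr.sq l x hx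

/-- **`q = 2`: two or more natural factors against one factor `S_{2^m'+1}`, `m' ≥ 3`.** -/
theorem three_false {K : Cls.{u}} {S S' : Sylow 2 G}
    (hH : Hyp K S) {P P' : Subgroup G} (hp : Pair S S' P P') {F : Type} [Field F] [Finite F] [CharP F 2]
    {k m' : ℕ} (M : NatK F (S : Subgroup G) P (zl (S : Subgroup G) P) ⊥ k)
    (M' : SymK (S' : Subgroup G) P' (zl (S' : Subgroup G) P') ⊥ 1 m') (hk : 2 ≤ k) (hm : 3 ≤ m')
    (hF : Nat.card F = 2) : False := by
  have hc := hH.ctx.char2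
  obtain ⟨t1, t2⟩ := typed_of hH.typed hp
  have f2 : Free (S' : Subgroup G) P' := free_of_sym M' (by omega)
  have hS' : IsSym (S' : Subgroup G) P' 1 m' := by
    refine ⟨?_⟩
    rw [show cv (S' : Subgroup G) P' = ⊥ from f2]
    exact M'
  have o1 := hp.off hc t2.noOver
  have o2 := hp.symm.off hc t1.noOver
  obtain ⟨ε, hε, h0, hs⟩ := S5.Pair.exists_lab (S' : Subgroup G) (by omega) hp.star'.isLoc.le hS' f2
  have hn5 : 5 ≤ 2 ^ m' + 1 := S5.Syl.five_le (by omega)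
  have hn3 : 3 ≤ 2 ^ m' + 1 := (by norm_num : 3 ≤ 5).trans hn5
  have hn9 : 9 ≤ 2 ^ m' + 1 := by
    have : 2 ^ 3 ≤ 2 ^ m' := Nat.pow_le_pow_right (by norm_num) hm
    omega
  have Fa : Facts ε P' := NSix.AllFacts.allFacts G hc S' P' m' ε hm hp.star' hε h0
  obtain ⟨b, hb, i, j, hij, hbs⟩ := S5.Nat.exists_swap hε (hs _ hp.le' o2) o2.ne
  obtain ⟨I, hI⟩ := exists_ind M hp.le o1
  have hVP : zl (S' : Subgroup G) P' ≤ P := hp.le.trans hp.star.isLoc.le
  obtain ⟨i₀, hn, a, ha, w, hw, hne⟩ := exists_mover M hI hVP hε hn3 hij hb hbs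
  have hn1 : rr ε i j ≠ 1 := rr_ne_one hε hn3 hij
  have hKK : zl (S' : Subgroup G) P' ≤ KK (rr ε i j) := facts_le_KK Fa hε hn3 hij
  have hC : CC M := ThmC.TwoOf.cc ThmC.stmt hc hp.star M hF
  have hZ := MinSimple.VModule.zc_le_zl (S : Subgroup G) P
  have hnf := line_le M i₀ hn
  have fr : Fr (S : Subgroup G) (fac M) := Big.fr_of hc hp.star hC hF hZ hnf hn1 ⟨a, ha, w, hKK hw, hne⟩
  have haV : ¬ a ∈ centralizer (zl (S' : Subgroup G) P' : Set G) := fun h => hne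
    (mem_centralizer_iff.1 h w hw)
  have haW : a ∈ WP ε i j := by
    have h1 := mem_KK.1 (Big.Supply.zl_le_KK hp.star hC hF hnf hn1 (fac_le M i₀ ha))
    rw [NSix.Zero.mem_WP]
    exact ⟨mem_cent.2 h1.1, h1.2⟩
  have hNN := nn_le hc S' hp.star' hm hε h0 Fa
    ⟨i, j, hij, a, haW, by rw [Big.Supply.fac_sq ha]; exact one_mem _, haV⟩
  have hO : NSix.OmegaOne.Hyp (zl (S' : Subgroup G) P') P' S' ε :=
    { ev := hε
      le := hp.star'.isLoc.le
      zS := MinSimple.VModule.zc_le_zl _ _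
      pair := fun i j k hij hki hkj q hq => Fa.pair i j hij k hki hkj q hq
      hle := Fa.le
      hN := ⟨i, j, hij, a, haW, haV⟩ }
  have hι : ∀ i : Fin k, ∃ j, j ≠ i := by
    have : Nontrivial (Fin k) := Fin.nontrivial_iff_two_le.2 hk
    exact fun i => exists_ne i
  obtain ⟨l, hl⟩ := hι i₀
  have hVl := le_zl_of hc fr hn5 hO hij (hNN i j hij) hKK hl hnf
  obtain ⟨Z, x, z, D, R, hz⟩ := Big.exists_rd_of_fr hc hp.star hC hF (by omega) fr
  have hzi : z i₀ = rr ε i j := (mem_line_two M hF hn hn1 (hz i₀)).resolve_left (D.z1 i₀)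
  have hodd : Odd (2 ^ m' + 1) := Even.add_one (Nat.even_pow.mpr ⟨even_two, by omega⟩)
  refine end_false R (NSix.Norm.evenSet' (by omega) S' hε hp.star'.isLoc.le h0) hodd hn9 hl hι hij hzi ?_ hVl
  rw [hzi]
  exact hNN i j hij

end Cfsg.Agent.Omega.IId.SymMany

end

section


/-!
# II.d: `WrSymMany K`

* `wrSymMany` : `Sym.WrSymMany K`;
* `wrSymBig` : `Sym.WrSymBig K`.
There is no configuration (`k = 2`, `m' ≥ 3` included).  No hypotheses.
-/

set_option autoImplicit false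

namespace Cfsg.Agent.Omega.IId.SymMany

open Subgroup Cfsg Cfsg.Agent.ZN.ChoiceBase
open Cfsg.Agent.ZN (o2 zc zl)
open Cfsg.Agent.Omega.MinPar Cfsg.Agent.Omega.FFThm Cfsg.Agent.Omega.Frame
open Cfsg.Agent.Omega.IId.Sym

universe u

/-- **`WrSymBig K`**: there is no configuration. -/
theorem wrSymBig {K : Cls.{u}} : WrSymBig K := by
  intro G _ _ S S' hH P P' hp F _ _ _ k m' M M' hk hm' hF hb
  exfalso
  rcases Nat.lt_or_ge 2 m' with h | h
  · exact three_false hH hp M M' hk h hF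
  · obtain rfl : m' = 2 := by omega
    exact two_false hH hp M M' (by omega) hF

/-- **`WrSymMany K`** -/
theorem wrSymMany {K : Cls.{u}} : WrSymMany K := by
  intro G _ _ S S' hH P P' hp F _ _ _ k m' M M' hk hm' hF
  exfalso
  rcases Nat.lt_or_ge 2 m' with h | h
  · exact three_false hH hp M M' (by omega) h hF
  · obtain rfl : m' = 2 := by omega
    exact two_false hH hp M M' hk hF

/-- the old form -/
theorem wrSymMany_of {K : Cls.{u}} (_ : NSix.HTwo.Main.Steps K) (_ : NO3S.SN.Two K) : WrSymMany K := wrSymMany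

/-- the old form -/
theorem wrSymBig_of {K : Cls.{u}} (_ : NSix.HTwo.Main.Steps K) (_ : NO3S.SN.Two K) : WrSymBig K := wrSymBig

end Cfsg.Agent.Omega.IId.SymMany

end
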